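import Mathlib
import Cfsg.Prelude.Def_Solvable
import Cfsg.Agent.SmallSimple.SelfCentPrime

/-!
# S4874, T5: a group of order divisible by 4 with at most four classes has a nontrivial normal 2-subgroup
-/

set_option autoImplicit false
set_option linter.unusedSectionVars false
set_option linter.deprecated false

open Cfsg Subgroup

namespace Cfsg.Agent.H261.K5.KFour

universe u

variable {G : Type u} [Group G] [Finite G]

/-- the centralizer of an involution has order divisible by 4 -/
theorem four_dvd_centralizer (h4 : 4 ∣ Nat.card G) {t : G} (ht : orderOf t = 2) :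
    4 ∣ Nat.card (centralizer ({t} : Set G)) := by
  have : Fact (Nat.Prime 2) := ⟨Nat.prime_two⟩
  obtain ⟨K, hK, hle⟩ := Sylow.exists_subgroup_card_pow_prime_le 2 (n := 1) (m := 2) h4 (zpowers t)
    (by rw [Nat.card_zpowers, ht, pow_one]) (by norm_num)
  have hcomm := IsPGroup.commutative_of_card_eq_prime_sq (p := 2) hK
  have hKC : K ≤ centralizer ({t} : Set G) := by
    intro x hx
    rw [mem_centralizer_iff]
    rintro y rfl
    have h1 := hcomm ⟨y, hle (mem_zpowers y)⟩ ⟨x, hx⟩
    exact congrArg Subtype.val h1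
  have h2 := Subgroup.card_dvd_of_le hKC
  rwa [hK] at h2

/-- normal 2-subgroups are trivial if `O_2(G) = 1` -/
theorem eq_bot_of_normal (hO : pCore 2 G = ⊥) {N : Subgroup G} (hN : N.Normal) (hp : IsPGroup 2 N) : N = ⊥ :=
  le_bot_iff.1 (hO ▸ le_sSup ⟨hN, hp⟩)

/-- **T5** -/
theorem kfour (h4 : 4 ∣ Nat.card G) (hk : Nat.card (ConjClasses G) ≤ 4) (hO : pCore 2 G = ⊥) : False := by
  classical
  have : Fact (Nat.Prime 2) := ⟨Nat.prime_two⟩
  have := Fintype.ofFinite G
  have : Fintype (ConjClasses G) := Fintype.ofFinite _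
  obtain ⟨t, ht⟩ := exists_prime_orderOf_dvd_card' 2 (dvd_trans (by norm_num) h4)
  have ht1 : t ≠ 1 := by
    rintro rfl
    rw [orderOf_one] at ht
    omega
  -- class sizes
  have hmul : ∀ x : G, (ConjClasses.mk x).carrier.ncard * Nat.card (centralizer ({x} : Set G)) = Nat.card G :=
    fun x => SmallSimple.SelfCentPrime.card_carrier_mul_card_centralizer x
  have hsum : ∑ C : ConjClasses G, C.carrier.ncard = Nat.card G := by
    rw [← Group.sum_card_conj_classes_eq_card, finsum_eq_sum_of_fintype]
  have h1c : (ConjClasses.mk (1 : G)).carrier.ncard = 1 := by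
    have h := hmul 1
    have h2 : centralizer ({1} : Set G) = ⊤ := by
      rw [eq_top_iff]
      intro x _
      rw [mem_centralizer_iff]
      rintro y rfl
      rw [one_mul, mul_one]
    rw [h2, Subgroup.card_top] at h
    exact Nat.eq_of_mul_eq_mul_right Nat.card_pos (h.trans (one_mul _).symm)
  -- centralizers of nontrivial elements have order at least 3
  have h3 : ∀ x : G, x ≠ 1 → 3 ≤ Nat.card (centralizer ({x} : Set G)) := by
    intro x hx
    by_contra hlt
    have hxc : x ∈ centralizer ({x} : Set G) := by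
      rw [mem_centralizer_iff]
      rintro y rfl
      rfl
    have hdvd : orderOf x ∣ Nat.card (centralizer ({x} : Set G)) := by
      rw [← Subgroup.orderOf_mk x hxc]
      exact orderOf_dvd_natCard _
    have hpos : 0 < Nat.card (centralizer ({x} : Set G)) := Nat.card_pos
    have hle := Nat.le_of_dvd hpos hdvd
    have hox : orderOf x = 2 := by
      have h5 : orderOf x ≠ 1 := fun h => hx (orderOf_eq_one_iff.1 h)
      have h6 := orderOf_pos x
      omega
    have h7 := Nat.le_of_dvd hpos (four_dvd_centralizer h4 hox)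
    omega
  have hthree : ∀ C : ConjClasses G, C ≠ ConjClasses.mk 1 → 3 * C.carrier.ncard ≤ Nat.card G := by
    intro C hC
    obtain ⟨x, rfl⟩ := ConjClasses.exists_rep C
    have hx : x ≠ 1 := by rintro rfl; exact hC rfl
    rw [← hmul x, mul_comm]
    exact Nat.mul_le_mul_left _ (h3 x hx)
  have hT4 : 4 * (ConjClasses.mk t).carrier.ncard ≤ Nat.card G := by
    rw [← hmul t, mul_comm]
    exact Nat.mul_le_mul_left _ (Nat.le_of_dvd Nat.card_pos (four_dvd_centralizer h4 ht))
  -- split the sum
  have hne : ConjClasses.mk t ≠ ConjClasses.mk 1 := by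
    intro h
    rw [ConjClasses.mk_eq_mk_iff_isConj, isConj_one_left] at h
    exact ht1 h
  let R : Finset (ConjClasses G) := (Finset.univ.erase (ConjClasses.mk 1)).erase (ConjClasses.mk t)
  have hR : ∀ C ∈ R, C ≠ ConjClasses.mk 1 ∧ C ≠ ConjClasses.mk t := by
    intro C hC
    simp only [R, Finset.mem_erase, Finset.mem_univ, and_true] at hC
    exact ⟨hC.2, hC.1⟩
  have hmem : ConjClasses.mk t ∈ Finset.univ.erase (ConjClasses.mk (1 : G)) := by
    simp only [Finset.mem_erase, Finset.mem_univ, and_true]
    exact hne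
  have hRcard : R.card ≤ 2 := by
    have h5 : R.card = (Finset.univ.erase (ConjClasses.mk (1 : G))).card - 1 := Finset.card_erase_of_mem hmem
    have h6 : (Finset.univ.erase (ConjClasses.mk (1 : G))).card = Finset.univ.card - 1 :=
      Finset.card_erase_of_mem (Finset.mem_univ _)
    rw [Finset.card_univ, ← Nat.card_eq_fintype_card] at h6
    omega
  have hsplit : 1 + (ConjClasses.mk t).carrier.ncard + ∑ C ∈ R, C.carrier.ncard = Nat.card G := by
    rw [← hsum, ← Finset.add_sum_erase _ _ (Finset.mem_univ (ConjClasses.mk (1 : G))), h1c,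
      ← Finset.add_sum_erase _ _ hmem, add_assoc]
  have hRsum : 3 * ∑ C ∈ R, C.carrier.ncard ≤ R.card * Nat.card G := by
    rw [Finset.mul_sum]
    have h := Finset.sum_le_card_nsmul R (fun C : ConjClasses G => 3 * C.carrier.ncard) _
      fun C hC => hthree C (hR C hC).1
    rwa [smul_eq_mul] at h
  have hle12 : Nat.card G ≤ 12 := by
    have := Nat.mul_le_mul_right (Nat.card G) hRcard
    omega
  -- 2-groups
  have hpos : 0 < Nat.card G := Nat.card_pos
  have hnot : ∀ k : ℕ, Nat.card G ≠ 2 ^ k := by
    intro k hk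
    have h7 : IsPGroup 2 (⊤ : Subgroup G) := by
      refine IsPGroup.of_card (n := k) ?_
      rw [Subgroup.card_top, hk]
    have h8 := eq_bot_of_normal hO inferInstance h7
    have h9 : Nat.card G = 1 := by rw [← Subgroup.card_top (G := G), h8, Subgroup.card_bot]
    omega
  have hn1 := hnot 2
  have hn2 := hnot 3
  have hn : Nat.card G = 12 := by omega
  -- order 12
  have hRc : R.card = 2 := by
    by_contra hc
    have h5 : R.card ≤ 1 := by omega
    have := Nat.mul_le_mul_right (Nat.card G) h5
    omega
  have hTc : (ConjClasses.mk t).carrier.ncard = 3 := by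
    rw [hRc] at hRsum
    omega
  have hRs : ∑ C ∈ R, C.carrier.ncard = 8 := by omega
  have hfour : ∀ C ∈ R, C.carrier.ncard = 4 := by
    intro C hC
    have h5 := hthree C (hR C hC).1
    have h6 : ∑ D ∈ R.erase C, D.carrier.ncard ≤ 4 := by
      have h7 : (R.erase C).card = 1 := by rw [Finset.card_erase_of_mem hC, hRc]
      obtain ⟨D, hD⟩ := Finset.card_eq_one.1 h7
      rw [hD, Finset.sum_singleton]
      have h8 : D ∈ R := Finset.mem_of_mem_erase (hD ▸ Finset.mem_singleton_self D)
      have h9 := hthree D (hR D h8).1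
      omega
    have h7 := Finset.add_sum_erase R (fun C : ConjClasses G => C.carrier.ncard) hC
    omega
  -- the Sylow 2-subgroup
  obtain ⟨P⟩ : Nonempty (Sylow 2 G) := inferInstance
  have hPc : Nat.card (P : Subgroup G) = 4 := by
    rw [P.card_eq_multiplicity, hn]
    have : (12 : ℕ).factorization 2 = 2 := by
      rw [show (12 : ℕ) = 2 ^ 2 * 3 by norm_num, Nat.factorization_mul (by norm_num) (by norm_num),
        Nat.factorization_pow]
      simp [Nat.Prime.factorization_self Nat.prime_two,
        Nat.factorization_eq_zero_of_not_dvd (show ¬ 2 ∣ 3 by norm_num)]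
    rw [this]
    norm_num
  have hcomm := IsPGroup.commutative_of_card_eq_prime_sq (p := 2) (G := (P : Subgroup G)) (by rw [hPc]; norm_num)
  have hPsub : ∀ y ∈ (P : Subgroup G), y ≠ 1 → y ∈ (ConjClasses.mk t).carrier := by
    intro y hy hy1
    by_contra hyt
    have hyR : ConjClasses.mk y ∈ R := by
      simp only [R, Finset.mem_erase, Finset.mem_univ, and_true]
      refine ⟨fun h => hyt ?_, fun h => hy1 ?_⟩
      · rw [← h]
        exact ConjClasses.mem_carrier_mk
      · rw [ConjClasses.mk_eq_mk_iff_isConj, isConj_one_left] at h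
        exact h
    have h5 := hmul y
    rw [hfour _ hyR, hn] at h5
    have hPC : (P : Subgroup G) ≤ centralizer ({y} : Set G) := by
      intro x hx
      rw [mem_centralizer_iff]
      rintro z rfl
      exact congrArg Subtype.val (hcomm ⟨z, hy⟩ ⟨x, hx⟩)
    have h6 := Subgroup.card_dvd_of_le hPC
    rw [hPc] at h6
    omega
  have hset : ((P : Subgroup G) : Set G) = insert 1 (ConjClasses.mk t).carrier := by
    refine Set.eq_of_subset_of_ncard_le ?_ ?_ (Set.toFinite _)
    · intro y hy
      by_cases hy1 : y = 1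
      · exact Or.inl hy1
      · exact Or.inr (hPsub y hy hy1)
    · refine (Set.ncard_insert_le _ _).trans ?_
      rw [hTc]
      have : ((P : Subgroup G) : Set G).ncard = 4 := hPc
      omega
  have hPn : (P : Subgroup G).Normal := by
    refine ⟨fun y hy g => ?_⟩
    have hy' : y ∈ insert 1 (ConjClasses.mk t).carrier := hset ▸ hy
    rcases hy' with h | h
    · rw [h, mul_one, mul_inv_cancel]
      exact one_mem _
    · have : g * y * g⁻¹ ∈ insert 1 (ConjClasses.mk t).carrier := by
        refine Or.inr ?_
        rw [ConjClasses.mem_carrier_iff_mk_eq] at h ⊢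
        rw [← h, ConjClasses.mk_eq_mk_iff_isConj]
        exact (isConj_iff.2 ⟨g, rfl⟩).symm
      rw [← hset] at this
      exact this
  have h10 := eq_bot_of_normal hO hPn P.isPGroup'
  rw [h10, Subgroup.card_bot] at hPc
  omega

end Cfsg.Agent.H261.K5.KFour
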